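import Cfsg.Agent.BZ.T.Loc
import Cfsg.Agent.BHZ.Spor.RowB3
import Cfsg.Agent.TID.SO.E.BFive

/-!
# BZ: the local data of `B` for `p = 3, 5` are Sylow subgroups or abelian (helper20)

`deep5` follows the first half of the proof of `BHZ.Spor.b_5`.
-/

set_option autoImplicit false
set_option maxRecDepth 100000

namespace Cfsg.Agent.BZ.C6

open Cfsg Cfsg.Agent.MonsterX Cfsg.Agent.BHZ.Spor Cfsg.Agent.BZ.T
open Subgroup (centralizer mem_centralizer_singleton_iff center)
open scoped commutatorElement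

theorem ra_b3 {S : Type} [Group S] [Finite S] (h : Spor.IsoB S) : RA 3 S := by
  have h3 : Fact (Nat.Prime 3) := ⟨Nat.prime_three⟩
  refine ra_of_at fun y hy hd => ?_
  by_cases h7 : 7 ∣ Nat.card ↥(centralizer ({y} : Set S))
  · obtain ⟨D⟩ := H604.RB.Three.frame_of_seven h hy h7
    refine (not_deep_of_fiFrame (fun h0 => ?_) D hd).elim
    rw [h0, orderOf_one] at hy
    norm_num at hy
  · exact at_of_constr (constr_of_qframe hy (H604.RB.ThreeB.qframe_three h hy h7))

theorem deep5 {S : Type} [Group S] [Finite S] (hB : Spor.IsoB S) {y : S} (hy : orderOf y = 5)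
    (hd : y ∈ ⁅centralizer ({y} : Set S), centralizer ({y} : Set S)⁆) : Constr 5 y := by
  have h5 : Fact (Nat.Prime 5) := ⟨Nat.prime_five⟩
  have hfin : Finite ↥InstData.M.G := MThirteen.Row.finite
  obtain ⟨t, ht, h2, e, a, ha, hay, hcase⟩ := H182.RG.BFive.cases_five hB hy
  let q : ↥(centralizer ({t} : Set ↥InstData.M.G)) →* S := e.toMonoidHom.comp (QuotientGroup.mk' _)
  have hq : Function.Surjective q := e.surjective.comp (QuotientGroup.mk'_surjective _)
  have hqk : ∀ c, q c = 1 ↔ c ∈ center ↥(centralizer ({t} : Set ↥InstData.M.G)) := fun c => by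
    change e (QuotientGroup.mk c) = 1 ↔ _
    rw [map_eq_one_iff _ e.injective, QuotientGroup.eq_one_iff]
  have hto := MThirteen.Row.ta_order ht
  have hqa : q a = y := hay
  have ha5 : a ^ 5 = 1 := by rw [← ha, pow_orderOf_eq_one]
  have ha1 : (a : ↥InstData.M.G) ≠ 1 := fun h0 => by
    rw [show a = 1 from Subtype.ext h0, orderOf_one] at ha
    norm_num at ha
  have htc : (⟨t, mem_centralizer_singleton_iff.2 rfl⟩ : ↥(centralizer ({t} : Set ↥InstData.M.G))) ∈
      center ↥(centralizer ({t} : Set ↥InstData.M.G)) :=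
    Subgroup.mem_center_iff.2 fun g => Subtype.ext (mem_centralizer_singleton_iff.1 g.2)
  have ht1 : t ≠ 1 := fun h0 => by
    rw [h0, orderOf_one] at hto
    norm_num at hto
  have htt : t * t = 1 := by rw [← pow_two, ← hto, pow_orderOf_eq_one]
  have hcen : ∀ c ∈ center ↥(centralizer ({t} : Set ↥InstData.M.G)),
      (c : ↥InstData.M.G) = 1 ∨ (c : ↥InstData.M.G) = t := fun c hc => by
    obtain ⟨w, -, hw⟩ := (Nat.card_eq_two_iff' (1 : center ↥(centralizer ({t} : Set ↥InstData.M.G)))).1 h2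
    by_cases h0 : (c : ↥InstData.M.G) = 1
    · exact Or.inl h0
    · have h3 := (hw ⟨c, hc⟩ fun h4 => h0 (congrArg (fun v => ((v : center _) : ↥InstData.M.G)) h4)).trans
        (hw ⟨_, htc⟩ fun h4 => ht1 (congrArg (fun v => ((v : center _) : ↥InstData.M.G)) h4)).symm
      exact Or.inr (congrArg (fun v => ((v : center _) : ↥InstData.M.G)) h3)
  rcases hcase with hH | ⟨x, k₁, i₁, hx, hfr, hk₁⟩
  · exfalso
    have h3 := deep_lift (p := 5) q hq (fun c hc => (hqk c).1 hc) (e := 2) (fun n hn => Subtype.ext (by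
      change (n : ↥InstData.M.G) ^ 2 = 1
      rcases hcen n ((hqk n).1 hn) with h4 | h4 <;> rw [h4]
      · exact one_pow 2
      · rw [pow_two, htt])) (by norm_num) ha5 (by rwa [hqa])
    refine B5.not_deep_hn ha1 hH ?_
    have h4 : (centralizer ({a} : Set ↥(centralizer ({t} : Set ↥InstData.M.G)))).map (Subgroup.subtype _) ≤
        centralizer ({(a : ↥InstData.M.G)} : Set ↥InstData.M.G) := by
      rintro _ ⟨c, hc, rfl⟩
      exact mem_centralizer_singleton_iff.2 (congrArg Subtype.val (mem_centralizer_singleton_iff.1 hc))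
    refine Subgroup.commutator_mono h4 h4 ?_
    rw [← Subgroup.map_commutator]
    exact ⟨a, h3, rfl⟩
  · rw [← hqa]
    refine TID.SO.E.b5_zero ht q hq (fun c hc => hcen c ((hqk c).1 hc)) (fun c hc => (hqk c).2 ?_) (fun h0 => ?_) hx hfr hk₁
    · rwa [show c = ⟨t, mem_centralizer_singleton_iff.2 rfl⟩ from Subtype.ext hc]
    · rw [← hqa, h0, orderOf_one] at hy
      norm_num at hy

theorem ra_b5 {S : Type} [Group S] [Finite S] (h : Spor.IsoB S) : RA 5 S :=
  have : Fact (Nat.Prime 5) := ⟨Nat.prime_five⟩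
  ra_of_at fun _ hy hd => at_of_constr (deep5 h hy hd)

end Cfsg.Agent.BZ.C6
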