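import Cfsg.Agent.BZ.C6.Eng
import Cfsg.Agent.BZ.C6.Dat
import Cfsg.Agent.BZ.C6.RA
import Cfsg.Agent.PQ.Spor.Tabs
import Cfsg.Agent.H973.BabyCov
import Cfsg.Agent.S5534

/-!
# BZ, `2.B`, `p = 3, 5` (helper20)

Four faithful irreducible characters of `2.B` from the restriction of the characters of the Monster.
-/

set_option autoImplicit false
set_option maxRecDepth 100000

namespace Cfsg.Agent.BZ.C6

open Cfsg Subgroup Cfsg.Agent.Characters.Core Cfsg.Agent.OddOrderCharacters.VChar Cfsg.Agent.TAB Cfsg.Agent.TAB.Eng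
open Cfsg.Agent.TAB.Use Cfsg.Agent.PQ.Spor Cfsg.Agent.BZ.T
open scoped ComplexConjugate

/-- a faithful irreducible character of degree `d` -/
def Fa {K : Type} [Group K] (z : K) (d : ℕ) : Prop :=
  ∃ χ : IrrCharacter K, (χ : K → ℂ) z ≠ (χ : K → ℂ) 1 ∧ charDegree (χ : K → ℂ) = d

theorem fa_of {K : Type} [Group K] {z : K} {χ : K → ℂ} (hχ : IsIrrCharacter K χ) (h : χ z ≠ χ 1) {d : ℕ} (hd : χ 1 = d) :
    Fa z d := ⟨⟨χ, hχ⟩, h, by rw [charDegree, Subtype.coe_mk, hd, Complex.natCast_re, Nat.floor_natCast]⟩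

theorem chars {K S G : Type} [Group K] [Finite K] [Group S] [Finite S] [Group G] (σ : K →* S)
    (hs : Function.Surjective σ) {z : K} (hz : z ∈ center K) (ho : orderOf z = 2) (hk : ∀ k, k ∈ σ.ker ↔ k = 1 ∨ k = z)
    (hK : Nat.card K = 2 * B.Fin.datF.N) (ι : K →* G) (hι : Function.Injective ι) (hB : HasT S B.Fin.datF B.Fin.tabB)
    (hM : HasT G M.dat M.tabM) : Fa z 96256 ∧ Fa z 8844386304 ∧ Fa z 100406462464 ∧ Fa z 10506240 := by
  have := Fintype.ofFinite K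
  obtain ⟨T, hm, hT⟩ := hB
  obtain ⟨U, -, hU⟩ := hM
  obtain ⟨χ, hE, hχ⟩ := rowB hT
  obtain ⟨b1, b2, b3, b4, b5, b6, b7, b8⟩ := cB1
  obtain ⟨d0, d1, d2, d3, d4, d5, d6⟩ := cB2
  have h2 : z * z = 1 := by rw [← pow_two, ← ho, pow_orderOf_eq_one]
  have hσz : ∀ g, σ (g * z) = σ g := fun g => by rw [map_mul, show σ z = 1 from (hk z).2 (.inr rfl), mul_one]
  have hzz : ∀ g, g * z * z = g := fun g => by rw [mul_assoc, h2, mul_one]
  have hord : ∀ g, M.dat.ord (U.ty (ι g)) = orderOf g := fun g => (U.ord _).symm.trans (orderOf_injective ι hι g)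
  have hor : ∀ g, M.dat.ord (U.ty (ι g)) = B.Fin.datF.ord (T.ty (σ g)) ∨
      M.dat.ord (U.ty (ι g)) = 2 * B.Fin.datF.ord (T.ty (σ g)) := fun g => by
    rw [hord, ← T.ord]
    exact ord_or σ (fun k hk' => by rcases (hk k).1 hk' with rfl | rfl; exacts [one_mul _, h2]) g
  have hor' := fun g => hσz g ▸ hor (g * z)
  have hinh : ∀ t < B.Fin.datF.n, ∃ g, T.ty (σ g) = t := fun t ht => by
    obtain ⟨s, h⟩ := inh_of_mass hm b1 t ht
    obtain ⟨g, rfl⟩ := hs s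
    exact ⟨g, h⟩
  have ht1 : T.ty (σ 1) = 0 := b2 _ (T.lt _) (by rw [← T.ord, map_one, orderOf_one])
  set f : ℕ → K → ℤ := fun j g => vM j (U.ty (ι g)) with hfd
  have hf : ∀ j, j = 1 ∨ j = 2 ∨ j = 5 → IsCharacter K fun g => (f j g : ℂ) := fun j hj =>
    isCharacter_comp ι (isIrr_isCharacter (rowM hU hj))
  obtain ⟨e1, e2⟩ : f 1 1 = 196883 ∧ f 2 1 = 21296876 := (cM1 _ (U.lt _)).1 (by rw [hord, orderOf_one])
  have e3 : (f 1 z = 4371 ∧ f 2 z = 91884) ∨ f 1 z = 275 := (cM1 _ (U.lt _)).2.1 (by rw [hord, ho])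
  -- the even part
  have hev : (∀ g, f 1 g + f 1 (g * z) = 2 * (vB 0 (T.ty (σ g)) + vB 1 (T.ty (σ g)) + vB 2 (T.ty (σ g)))) ∧
      f 1 z = 4371 ∧ f 2 z = 91884 := by
    obtain ⟨P, hP, h3⟩ := descend σ hs (isChar_pt hz h2 (.inl rfl) (hf 1 (.inl rfl))) fun g k hk' => by
      rcases (hk k).1 hk' with rfl | rfl
      · rw [mul_one]
      · simp only [pt, hzz]
        ring
    obtain ⟨e, he, he'⟩ : ∃ e : ℕ, e ≤ 100627 ∧ P 1 = e := by
      rw [← map_one σ, ← h3]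
      simp only [pt, one_mul, e1]
      rcases e3 with h | h
      · exact ⟨100627, le_rfl, by rw [h.1]; norm_num⟩
      · exact ⟨98579, by norm_num, by rw [h]; norm_num⟩
    obtain ⟨m, h4⟩ := small hE hP (k := 3) he' (by omega) fun j hj h => he.trans_lt (b7 j hj h)
    have h5 : ∀ g, f 1 g + f 1 (g * z) =
        2 * (m 0 * vB 0 (T.ty (σ g)) + m 1 * vB 1 (T.ty (σ g)) + m 2 * vB 2 (T.ty (σ g))) := fun g => by
      have h6 := (h3 g).trans (h4 _)
      simp only [pt, Finset.sum_range_succ, Finset.sum_range_zero, hχ 0 (by norm_num), hχ 1 (by norm_num),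
        hχ 2 (by norm_num)] at h6
      refine Int.cast_injective (α := ℂ) ?_
      push_cast
      linear_combination 2 * h6
    obtain ⟨g, hg⟩ := hinh 162 b4
    have h6 := h5 g
    have h7 := h5 1
    rw [show f 1 g = 0 from (cM1 _ (U.lt _)).2.2 (by rw [← b5, ← hg]; exact hor g),
      show f 1 (g * z) = 0 from (cM1 _ (U.lt _)).2.2 (by rw [← b5, ← hg]; exact hor' g), hg, d4, d5, d6] at h6
    rw [ht1, d0, d1, d2, one_mul, e1] at h7
    have h8 : m 0 = 1 ∧ m 1 = 1 ∧ m 2 = 1 ∧ f 1 z ≠ 275 := by omega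
    exact ⟨fun g => by rw [h5, h8.1, h8.2.1, h8.2.2.1]; push_cast; ring, e3.resolve_right h8.2.2.2⟩
  obtain ⟨hev, e4, e5⟩ := hev
  -- the odd part
  obtain ⟨ψ, hψ, hψv⟩ : ∃ ψ : K → ℂ, IsCharacter K ψ ∧ ∀ g, ψ g = ((f 1 g - f 1 (g * z) : ℤ) : ℂ) / 2 :=
    ⟨_, isChar_pt hz h2 (.inr rfl) (hf 1 (.inl rfl)), fun g => by simp only [pt]; push_cast; ring⟩
  have hψz : ∀ g, ψ (g * z) = -ψ g := fun g => by rw [hψv, hψv, hzz]; push_cast; ring
  have hψc : ∀ g, ψ g * conj (ψ g) = (((f 1 g - f 1 (g * z)) * (f 1 g - f 1 (g * z)) : ℤ) : ℂ) / 4 := fun g => by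
    rw [hψv, map_div₀, map_intCast, map_ofNat]
    push_cast
    ring
  have hψ1 : ψ 1 = 96256 := by rw [hψv, one_mul, e1, e4]; norm_num
  have hsq : ∀ g, ψ g * conj (ψ g) = nth sqL (T.ty (σ g)) := by
    obtain ⟨Q, hQ, h3⟩ := descend σ hs (isCharacter_mul hψ (isCharacter_conj hψ)) fun g k hk' => by
      rcases (hk k).1 hk' with rfl | rfl
      · rw [mul_one]
      · simp only [Pi.mul_apply, hψz, map_neg, neg_mul_neg]
    obtain ⟨m, h4⟩ := small hE hQ (e := 9265217536) (k := 14) (by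
      rw [← map_one σ, ← h3, Pi.mul_apply, hψ1, map_ofNat]; norm_num) b6 b8
    have h5 : ∀ g, ψ g * conj (ψ g) = ((∑ j ∈ Finset.range 14, (m j : ℤ) * vB j (T.ty (σ g)) : ℤ) : ℂ) := fun g => by
      rw [Int.cast_sum]
      refine ((h3 g).trans (h4 _)).trans (Finset.sum_congr rfl fun j hj => ?_)
      rw [hχ j ((Finset.mem_range.1 hj).trans (by norm_num)), Int.cast_mul, Int.cast_natCast]
    have h6 := eq_of_cert (by norm_num) cB4 (x := fun j => m j) (y := m0) fun i hi => by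
      obtain ⟨g, hg⟩ := hinh _ (b3 i hi)
      have h6 := cM3 i hi _ (U.lt (ι g)) (hg ▸ hor g) _ (U.lt (ι (g * z))) (hg ▸ hor' g) (hg ▸ hev g)
      have h7 := (h5 g).symm.trans (hψc g)
      rw [cB3 _ (b3 i hi), ← hg]
      rw [show (f 1 g - f 1 (g * z)) * (f 1 g - f 1 (g * z)) = _ from h6, ← hg] at h7
      refine Int.cast_injective (α := ℂ) (h7.trans ?_)
      push_cast
      ring
    intro g
    rw [h5, ← cB3 _ (T.lt _)]
    exact congrArg _ (Finset.sum_congr rfl fun j hj => by rw [← h6 j (Finset.mem_range.1 hj)])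
  -- the products
  have hrow : ∀ j < 14, IsGeneralizedCharacter K fun g => (vB j (T.ty (σ g)) : ℂ) := fun j hj => by
    have h3 := gen_comp σ (gen_of_irr (hE.irr j (hj.trans_le b6)))
    rwa [show χ j ∘ σ = _ from funext fun g => hχ j (by omega) (σ g)] at h3
  have hgen : ∀ i < 14, ∀ j < 14, IsGeneralizedCharacter K
      fun g => ψ g * ((vB i (T.ty (σ g)) - vB j (T.ty (σ g)) : ℤ) : ℂ) := fun i hi j hj => by
    have h3 := gen_mul (gen_of_char hψ) (gen_sub (hrow i hi) (hrow j hj))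
    convert h3 using 2
    simp
  have hodd : ∀ u : ℕ → ℤ, ∀ g, ψ (g * z) * u (T.ty (σ (g * z))) = -(ψ g * u (T.ty (σ g))) := fun u g => by
    rw [hψz, hσz, neg_mul]
  have hfa : ∀ {u : ℕ → ℤ} {d : ℕ}, IsIrrCharacter K (fun g => ψ g * u (T.ty (σ g))) → ψ 1 * u (T.ty (σ 1)) = d → Fa z d :=
    fun h hd => fa_of h (odd_of_inner (hodd _) h hz (by rw [classInner_irr_self h]; exact one_ne_zero)) hd
  have g0 : ψ 1 * vB 0 (T.ty (σ 1)) = (96256 : ℕ) := by rw [hψ1, ht1, d0]; norm_num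
  have g1 : ψ 1 * ((vB 1 (T.ty (σ 1)) - vB 0 (T.ty (σ 1)) : ℤ) : ℂ) = (420638720 : ℕ) := by rw [hψ1, ht1, d0, d1]; norm_num
  have g2 : ψ 1 * ((vB 2 (T.ty (σ 1)) - vB 1 (T.ty (σ 1)) : ℤ) : ℂ) = (8844386304 : ℕ) := by
    rw [hψ1, ht1, d1, d2]; norm_num
  have g3 : ψ 1 * ((vB 3 (T.ty (σ 1)) - vB 2 (T.ty (σ 1)) : ℤ) : ℂ) = (100406462464 : ℕ) := by
    rw [hψ1, ht1, d2, d3]; norm_num
  have i0 := irr_of_norm1 (gen_mul (gen_of_char hψ) (hrow 0 (by norm_num)))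
    ((inner_psi hm σ hs hsq cG0).trans Int.cast_one) g0
  have i2 := irr_of_norm1 (hgen 2 (by norm_num) 1 (by norm_num)) ((inner_psi hm σ hs hsq cG2).trans Int.cast_one) g2
  have i3 := irr_of_norm1 (hgen 3 (by norm_num) 2 (by norm_num)) ((inner_psi hm σ hs hsq cG3).trans Int.cast_one) g3
  refine ⟨hfa i0 g0, hfa (u := fun t => vB 2 t - vB 1 t) i2 g2, hfa (u := fun t => vB 3 t - vB 2 t) i3 g3, ?_⟩
  obtain ⟨φ, h3, i, j, a, b, hi, hj, ha, h4, h5, h6, h7⟩ := split i0 i2 (hgen 1 (by norm_num) 0 (by norm_num))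
    (isChar_pt hz h2 (.inr rfl) (hf 2 (.inr (.inl rfl)))) (isChar_pt hz h2 (.inr rfl) (hf 5 (.inr (.inr rfl))))
    (funext fun g => by
      have h3 : 2 * (f 2 g + f 5 g) = f 1 g * f 1 g - f 1 (g ^ 2) := by
        simp only [hfd, map_pow, U.pow]
        exact cM2 _ (U.lt _)
      have h4 : 2 * (f 2 (g * z) + f 5 (g * z)) = f 1 (g * z) * f 1 (g * z) - f 1 (g ^ 2) := by
        rw [show g ^ 2 = (g * z) ^ 2 by
          rw [(show Commute g z from mem_center_iff.1 hz g).mul_pow, pow_two z, h2, mul_one]]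
        simp only [hfd, map_pow, U.pow]
        exact cM2 _ (U.lt _)
      have h5 := congrArg (Int.cast : ℤ → ℂ) h3
      have h6 := congrArg (Int.cast : ℤ → ℂ) h4
      have h7 := congrArg (Int.cast : ℤ → ℂ) (hev g)
      simp only [pt, Pi.add_apply, Pi.smul_apply, Pi.mul_apply, smul_eq_mul, hψv]
      push_cast at h5 h6 h7 ⊢
      linear_combination h5 / 4 - h6 / 4 + ((f 1 g : ℂ) - f 1 (g * z)) / 4 * h7)
    ((inner_psi hm σ hs hsq cG1).trans (Int.cast_ofNat 2)) ((inner_psi hm σ hs hsq cG10).trans Int.cast_zero) g0 g1 g2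
    (e := 10602496) (by simp only [pt, one_mul, e2, e5]; norm_num) (by norm_num) (by norm_num) (by norm_num)
  refine fa_of φ.2 (odd_of_inner (hodd fun t => vB 1 t - vB 0 t) φ.2 hz h3) (ha.trans (congrArg _ ?_))
  rw [hK] at h4 h5
  obtain rfl : b = 420638720 - a := by omega
  have h8 : a = 10602496 ∨ a = 10506240 ∨ a = 10409984 ∨ a = 10313728 ∨ a = 5301248 ∨ a = 5253120 ∨ a = 5204992 ∨
      a = 5156864 := by interval_cases i <;> interval_cases j <;> omega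
  rcases h8 with rfl | rfl | rfl | rfl | rfl | rfl | rfl | rfl <;> first
    | rfl
    | exact absurd h4 (by decide +kernel)
    | exact absurd h5 (by decide +kernel)

theorem reg_b {S : Type} [Group S] [Finite S] (hB : HasT S B.Fin.datF B.Fin.tabB) : Reg 3 10 S ∧ Reg 5 4 S := by
  obtain ⟨T, hm, hT⟩ := hB
  have h3 : Fact (Nat.Prime 3) := ⟨Nat.prime_three⟩
  have h5 : Fact (Nat.Prime 5) := ⟨Nat.prime_five⟩
  exact ⟨reg_of_prime fun t h1 h2 h => cR3 _ (T.lt t) (T.ord t ▸ Nat.prime_def_lt.1 h1) (T.ord t ▸ h2)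
      (h.trans (KM.Sp.card_dvd_cbg (KM.Sp.Hy.nil hm hT) t _)),
    reg_of_prime fun t h1 h2 h => cR5 _ (T.lt t) (T.ord t ▸ Nat.prime_def_lt.1 h1) (T.ord t ▸ h2)
      (h.trans (KM.Sp.card_dvd_cbg (KM.Sp.Hy.nil hm hT) t _))⟩

/-- a faithful irreducible character of degree `d` -/
def Fc (K : Type) [Group K] (d : ℕ) : Prop :=
  ∃ χ : IrrCharacter K, (∀ z ∈ center K, (χ : K → ℂ) z = (χ : K → ℂ) 1 → z = 1) ∧ charDegree (χ : K → ℂ) = d

theorem chars_of {p : ℕ} {M : Ideal AlgInt} {K : Type} [Group K] [Finite K] {B : Set (IrrCharacter K)} {D : Subgroup K}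
    {σ : K →* Spor.BabyMonster} (H : Hyp p M B D σ) (hc : Nat.card (center K) = 2) :
    Fc K 96256 ∧ Fc K 8844386304 ∧ Fc K 100406462464 ∧ Fc K 10506240 := by
  have h2 : Fact (Nat.Prime 2) := ⟨Nat.prime_two⟩
  have hS := Finite.of_surjective σ H.surj
  have hG : Finite Spor.Monster := BHZ.Spor.finite_of_card (NotCT.Orders.m ⟨MulEquiv.refl _⟩) (by norm_num)
  obtain ⟨y, -, hy⟩ := S5534.result
  obtain ⟨e⟩ := H973.BabyCov.equiv_cover hy σ.ker H.ker.le (H.ker ▸ hc) H.qs.1.commutator_eq_top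
    (QuotientGroup.quotientKerEquivOfSurjective σ H.surj)
  obtain ⟨z, hz, hz'⟩ := (Nat.card_eq_two_iff' (1 : center K)).1 hc
  have key := chars σ H.surj z.2 (by rw [orderOf_coe, orderOf_eq_prime (hc ▸ pow_card_eq_one') hz]) (fun k => by
      rw [H.ker]
      refine ⟨fun h => (em (k = 1)).imp_right fun h1 => congrArg Subtype.val (hz' ⟨k, h⟩ fun h3 => h1 (congrArg Subtype.val h3)),
        ?_⟩
      rintro (rfl | rfl)
      exacts [one_mem _, z.2])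
    (by rw [H.card_eq, hc, tB.choose_spec.1.1, mul_comm]) ((Subgroup.subtype _).comp e.symm.toMonoidHom)
    ((subtype_injective _).comp e.symm.injective) tB tM
  have h3 : ∀ {d}, Fa (z : K) d → Fc K d := fun ⟨χ, h3, h4⟩ => ⟨χ, faith_of_prime Nat.prime_two hc z.2 h3, h4⟩
  exact ⟨h3 key.1, h3 key.2.1, h3 key.2.2.1, h3 key.2.2.2⟩

theorem le_nu {p n N k : ℕ} [hp : Fact p.Prime] (h1 : ¬ p ^ 2 ∣ n) (h0 : n ≠ 0) (hN : N ≠ 0) (h2 : p ^ (k + 1) ∣ N) :
    n.factorization p + k ≤ N.factorization p := by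
  have h3 := (hp.out.pow_dvd_iff_le_factorization hN).1 h2
  have h4 := mt (hp.out.pow_dvd_iff_le_factorization h0 (k := 2)).2 h1
  omega

theorem b_2_3 : ∀ (S : Type) [Group S] [Finite S], Spor.IsoB S → Cov XP 2 3 S := fun _ _ _ ⟨e⟩ => by
  have h3 : Fact (Nat.Prime 3) := ⟨Nat.prime_three⟩
  refine Cov.of_equiv e fun K _ _ σ M B D H hc => ?_
  have hS := Finite.of_surjective σ H.surj
  obtain ⟨χ, h1, h2⟩ := (chars_of H hc).2.1
  refine H.not_XP (H.rt_of_ra (ra_b3 ⟨MulEquiv.refl _⟩)) χ h1 (H.ce.top_of_crit H.hM (reg_b tB).1 χ ?_) (by rw [h2]; norm_num)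
  rw [h2, tB.choose_spec.1.1]
  exact le_nu (by norm_num) (by norm_num) (by decide +kernel) (by decide +kernel)

theorem b_2_5 : ∀ (S : Type) [Group S] [Finite S], Spor.IsoB S → Cov XP 2 5 S := fun _ _ _ ⟨e⟩ => by
  have h5 : Fact (Nat.Prime 5) := ⟨Nat.prime_five⟩
  refine Cov.of_equiv e fun K _ _ σ M B D H hc => ?_
  have hS := Finite.of_surjective σ H.surj
  obtain ⟨χ, h1, h2⟩ := (chars_of H hc).2.2.2
  refine H.not_XP (H.rt_of_ra (ra_b5 ⟨MulEquiv.refl _⟩)) χ h1 (H.ce.top_of_crit H.hM (reg_b tB).2 χ ?_) (by rw [h2]; norm_num)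
  rw [h2, tB.choose_spec.1.1]
  exact le_nu (by norm_num) (by norm_num) (by decide +kernel) (by decide +kernel)

theorem bT_2_3 : ∀ (S : Type) [Group S] [Finite S], Spor.IsoB S → Cov XT 2 3 S := fun _ _ _ ⟨e⟩ => by
  have h3 : Fact (Nat.Prime 3) := ⟨Nat.prime_three⟩
  refine Cov.of_equiv e fun K _ _ σ M B D H hc => ?_
  have hS := Finite.of_surjective σ H.surj
  obtain ⟨⟨χ, h1, h2⟩, -, ⟨ψ, h4, h6⟩, -⟩ := chars_of H hc
  exact H.not_XT (H.rt_of_ra (ra_b3 ⟨MulEquiv.refl _⟩)) χ ψ h1 h4 (by rw [h2]; norm_num) (by rw [h6]; norm_num)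
    (by rw [h2, h6]; norm_num)

theorem bT_2_5 : ∀ (S : Type) [Group S] [Finite S], Spor.IsoB S → Cov XT 2 5 S := fun _ _ _ ⟨e⟩ => by
  have h5 : Fact (Nat.Prime 5) := ⟨Nat.prime_five⟩
  refine Cov.of_equiv e fun K _ _ σ M B D H hc => ?_
  have hS := Finite.of_surjective σ H.surj
  obtain ⟨⟨χ, h1, h2⟩, -, ⟨ψ, h4, h6⟩, -⟩ := chars_of H hc
  exact H.not_XT (H.rt_of_ra (ra_b5 ⟨MulEquiv.refl _⟩)) χ ψ h1 h4 (by rw [h2]; norm_num) (by rw [h6]; norm_num)
    (by rw [h2, h6]; norm_num)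

end Cfsg.Agent.BZ.C6
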