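import Cfsg.Agent.BZ.T.Loc
import Cfsg.Agent.H829.GowDesc
import Cfsg.Agent.H669.Basic
import Cfsg.Agent.OddOrderCharacters.VChar
import Cfsg.Agent.TAB.Eng.Gram
import Cfsg.Agent.TAB.Use.Defs

/-!
# BZ: characters of a double cover from a restricted character (helper20)

* `pt z ε f` : the part of the character `f` on which the central involution `z` acts as `ε`;
* `descend` : a character which is constant on the cosets of the kernel; `small` : a character of small degree on a table;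
* `inner_psi` : the Gram matrix of the products `ψ · θ`; `split` : the constituents of a summand.
-/

set_option autoImplicit false
set_option linter.unusedSectionVars false

namespace Cfsg.Agent.BZ.C6

open Cfsg Subgroup Cfsg.Agent.Characters.Core Cfsg.Agent.OddOrderCharacters.VChar Cfsg.Agent.TAB.Eng Cfsg.Agent.TAB.Use
open scoped ComplexConjugate

variable {K S : Type} [Group K] [Finite K] [Group S] [Finite S] {z : K}

/-- the part on which `z` acts as `ε` -/
noncomputable def pt (z : K) (ε : ℂ) (f : K → ℂ) : K → ℂ := fun g => (f g + ε * f (g * z)) / 2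

theorem sgn {χ : K → ℂ} (hχ : IsIrrCharacter K χ) (hz : z ∈ center K) (h2 : z * z = 1) :
    (∀ g, χ (g * z) = χ g) ∨ ∀ g, χ (g * z) = -χ g := by
  have h1 := T.cen_pow hχ hz 2
  rw [pow_two, h2, div_self (isIrr_apply_one_ne_zero hχ), pow_two] at h1
  refine (mul_self_eq_one_iff.1 h1.symm).imp (fun h g => ?_) fun h g => ?_
  · rw [T.cen_mul hχ hz, h, one_mul]
  · rw [T.cen_mul hχ hz, h, neg_one_mul]

theorem isChar_pt (hz : z ∈ center K) (h2 : z * z = 1) {ε : ℂ} (hε : ε = 1 ∨ ε = -1) {f : K → ℂ}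
    (hf : IsCharacter K f) : IsCharacter K (pt z ε f) := by
  have := finite_irr (G := K)
  have := Fintype.ofFinite (IrrCharacter K)
  obtain ⟨m, rfl⟩ := exists_nat_comb hf
  have h1 : pt z ε (∑ ψ : IrrCharacter K, m ψ • (ψ : K → ℂ)) = ∑ ψ : IrrCharacter K, m ψ • pt z ε (ψ : K → ℂ) := by
    funext g
    simp only [pt, Finset.sum_apply, nsmul_eq_mul, Pi.mul_apply, Pi.natCast_apply, Finset.mul_sum,
      ← Finset.sum_add_distrib, Finset.sum_div]
    exact Finset.sum_congr rfl fun ψ _ => by ring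
  rw [h1]
  refine isCharacter_sum _ fun ψ _ => isCharacter_nsmul _ ?_
  have h3 : pt z ε (ψ : K → ℂ) = ψ ∨ pt z ε (ψ : K → ℂ) = 0 := by
    rcases sgn ψ.2 hz h2 with h | h <;> rcases hε with rfl | rfl
    · exact .inl (funext fun g => by rw [pt, h]; ring)
    · exact .inr (funext fun g => by rw [pt, h, Pi.zero_apply]; ring)
    · exact .inr (funext fun g => by rw [pt, h, Pi.zero_apply]; ring)
    · exact .inl (funext fun g => by rw [pt, h]; ring)
  rcases h3 with h | h <;> rw [h]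
  exacts [isIrr_isCharacter ψ.2, isCharacter_zero]

theorem descend (σ : K →* S) (hs : Function.Surjective σ) {f : K → ℂ} (hf : IsCharacter K f)
    (h : ∀ g, ∀ k ∈ σ.ker, f (g * k) = f g) : ∃ f' : S → ℂ, IsCharacter S f' ∧ ∀ g, f g = f' (σ g) := by
  have := Fintype.ofFinite K
  have := Fintype.ofFinite S
  have := finite_irr (G := S)
  have := Fintype.ofFinite (IrrCharacter S)
  have h1 : ∀ g, f g = f (Function.surjInv hs (σ g)) := fun g => by
    rw [← h g (g⁻¹ * Function.surjInv hs (σ g)) (by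
      rw [MonoidHom.mem_ker, map_mul, map_inv, Function.surjInv_eq hs, inv_mul_cancel]), mul_inv_cancel_left]
  refine ⟨fun s => f (Function.surjInv hs s), ?_, h1⟩
  have h2 : IsClassFunction S fun s => f (Function.surjInv hs s) := fun s t => by
    obtain ⟨s, rfl⟩ := hs s
    obtain ⟨t, rfl⟩ := hs t
    simp only [← map_mul, ← map_inv, ← h1]
    exact isCharacter_isClassFunction hf s t
  choose n hn using fun χ : IrrCharacter S => classInner_isNat hf (isCharacter_comp σ (isIrr_isCharacter χ.2))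
  refine isCharacter_iff.2 ⟨n, (classFunction_eq_sum h2).trans (Finset.sum_congr rfl fun χ _ => ?_)⟩
  rw [← H829.GowDesc.classInner_comp_surj σ hs, show (fun s => f (Function.surjInv hs s)) ∘ σ = f from (funext h1).symm,
    hn, Nat.cast_smul_eq_nsmul]

theorem deg_le [Fintype K] {f χ : K → ℂ} (hf : IsCharacter K f) (hχ : IsIrrCharacter K χ) {a e : ℕ} (ha : χ 1 = a)
    (he : f 1 = e) (h : classInner f χ ≠ 0) : a ≤ e := by
  have := finite_irr (G := K)
  have := Fintype.ofFinite (IrrCharacter K)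
  obtain ⟨m, rfl⟩ := exists_nat_comb hf
  choose d _ hd using fun ψ : IrrCharacter K => isIrr_apply_one ψ.2
  rw [classInner_sum_nsmul_irr m ⟨χ, hχ⟩, Nat.cast_ne_zero] at h
  have h1 : ∑ ψ, m ψ * d ψ = e := by
    simp only [Finset.sum_apply, nsmul_eq_mul, Pi.mul_apply, Pi.natCast_apply, hd] at he
    exact_mod_cast he
  have h2 : d ⟨χ, hχ⟩ = a := by exact_mod_cast (hd ⟨χ, hχ⟩).symm.trans ha
  have h3 := Finset.single_le_sum (f := fun ψ => m ψ * d ψ) (fun _ _ => Nat.zero_le _) (Finset.mem_univ ⟨χ, hχ⟩)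
  simp only [h1, h2] at h3
  exact (Nat.le_mul_of_pos_left a (Nat.pos_of_ne_zero h)).trans h3

theorem small {n : ℕ} {d : ℕ → ℕ} {χ : ℕ → S → ℂ} (E : Enum S n d χ) {f : S → ℂ} (hf : IsCharacter S f) {e k : ℕ}
    (he : f 1 = e) (hk : k ≤ n) (h : ∀ j < n, k ≤ j → e < d j) :
    ∃ m : ℕ → ℕ, ∀ g, f g = ∑ j ∈ Finset.range k, (m j : ℂ) * χ j g := by
  have := Fintype.ofFinite S
  have h1 : ∀ j, ∃ m : ℕ, j < n → classInner f (χ j) = m := fun j => by
    by_cases hj : j < n
    · exact (classInner_isNat hf (isIrr_isCharacter (E.irr j hj))).imp fun _ h _ => h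
    · exact ⟨0, fun h => absurd h hj⟩
  choose m hm using h1
  have h2 : IsCharacter S (∑ j ∈ Finset.range k, m j • χ j) := isCharacter_sum _ fun j hj =>
    isCharacter_nsmul _ (isIrr_isCharacter (E.irr j ((Finset.mem_range.1 hj).trans_le hk)))
  have h3 := classFunction_eq_zero (gen_isClassFunction (gen_sub (gen_of_char hf) (gen_of_char h2))) fun φ hφ => by
    obtain ⟨i, hi, rfl⟩ := E.all φ hφ
    have h4 : ∀ j ∈ Finset.range k, j ≠ i → classInner (m j • χ j) (χ i) = 0 := fun j hj hne => by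
      have hj' := (Finset.mem_range.1 hj).trans_le hk
      rw [← Nat.cast_smul_eq_nsmul ℂ, classInner_smul_left, classInner_irr_ne (E.irr j hj') hφ fun e => hne (E.inj _ hj' _ hi e),
        mul_zero]
    rw [classInner_sub_left, classInner_sum_left]
    by_cases hik : i < k
    · rw [Finset.sum_eq_single i h4 fun h5 => absurd (Finset.mem_range.2 hik) h5, ← Nat.cast_smul_eq_nsmul ℂ,
        classInner_smul_left, classInner_irr_self hφ, mul_one, hm i hi, sub_self]
    · rw [Finset.sum_eq_zero fun j hj => h4 j hj fun e => hik (e ▸ Finset.mem_range.1 hj), sub_zero]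
      by_contra h5
      exact absurd (deg_le hf hφ (E.deg i hi) he h5) (not_le.2 (h i hi (not_lt.1 hik)))
  refine ⟨m, fun g => ?_⟩
  have h4 := congrFun (sub_eq_zero.1 h3) g
  simpa only [Finset.sum_apply, nsmul_eq_mul, Pi.mul_apply, Pi.natCast_apply] using h4

theorem irr_of_norm1 [Fintype K] {θ : K → ℂ} (hg : IsGeneralizedCharacter K θ) (h1 : classInner θ θ = 1) {d : ℕ}
    (hd : θ 1 = d) : IsIrrCharacter K θ := by
  refine (isIrr_of_generalized hg h1).resolve_right fun h => ?_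
  obtain ⟨n, hn, h2⟩ := isIrr_apply_one h
  rw [Pi.neg_apply, hd] at h2
  have h3 : -(d : ℤ) = n := by exact_mod_cast h2
  omega

/-- a constituent of an odd function is odd -/
theorem odd_of_inner [Fintype K] {f χ : K → ℂ} (hf : ∀ g, f (g * z) = -f g) (hχ : IsIrrCharacter K χ) (hz : z ∈ center K)
    (h : classInner f χ ≠ 0) : χ z ≠ χ 1 := fun h1 => h (by
  have h2 : ∀ g, χ (g * z) = χ g := fun g => by
    rw [T.cen_mul hχ hz, h1, div_self (isIrr_apply_one_ne_zero hχ), one_mul]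
  have h3 := Equiv.sum_comp (Equiv.mulRight z) fun g => f g * conj (χ g)
  simp only [Equiv.coe_mulRight, hf, h2, neg_mul, Finset.sum_neg_distrib] at h3
  rw [classInner_def, show ∑ g, f g * conj (χ g) = 0 by linear_combination (-1 / 2 : ℂ) * h3, mul_zero])

theorem inner_psi [Fintype K] {D : Dat} {T : TD S D} (hm : T.Mass) (σ : K →* S) (hs : Function.Surjective σ) {ψ : K → ℂ}
    {q : ℕ → ℤ} (hψ : ∀ g, ψ g * conj (ψ g) = q (T.ty (σ g))) {u v : ℕ → ℤ} {c : ℤ}
    (h : ipF D (fun t => q t * u t) v = D.N * c) :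
    classInner (fun g => ψ g * u (T.ty (σ g))) (fun g => ψ g * v (T.ty (σ g))) = c := by
  have := Fintype.ofFinite S
  rw [← inner_of_ipF hm h, ← H829.GowDesc.classInner_comp_surj σ hs, classInner_def, classInner_def]
  refine congrArg _ (Finset.sum_congr rfl fun g _ => ?_)
  simp only [Function.comp_apply, map_mul, Int.cast_mul, ← hψ]
  ring

omit [Finite S] in
theorem ord_or (σ : K →* S) (hk : ∀ k ∈ σ.ker, k * k = 1) (g : K) :
    orderOf g = orderOf (σ g) ∨ orderOf g = 2 * orderOf (σ g) := by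
  obtain ⟨c, hc⟩ := orderOf_map_dvd σ g
  have h1 : orderOf g ∣ orderOf (σ g) * 2 := orderOf_dvd_of_pow_eq_one (by
    rw [pow_mul, pow_two]
    exact hk _ (by rw [MonoidHom.mem_ker, map_pow, pow_orderOf_eq_one]))
  have h2 : orderOf (σ g) ≠ 0 := fun e => (orderOf_pos g).ne' (by rw [hc, e, zero_mul])
  rw [hc, Nat.mul_dvd_mul_iff_left (Nat.pos_of_ne_zero h2)] at h1
  rcases (Nat.dvd_prime Nat.prime_two).1 h1 with rfl | rfl
  · exact .inl (hc.trans (mul_one _))
  · exact .inr (hc.trans (mul_comm _ _))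

theorem eq_of_cert {k : ℕ} {A W : ℕ → ℕ → ℤ} {c : ℤ} (hc : c ≠ 0)
    (h : ∀ j < k, ∀ l < k, ∑ i ∈ Finset.range k, A j i * W i l = if j = l then c else 0) {x y : ℕ → ℤ}
    (hx : ∀ i < k, ∑ j ∈ Finset.range k, x j * A j i = ∑ j ∈ Finset.range k, y j * A j i) : ∀ l < k, x l = y l := by
  have key : ∀ x : ℕ → ℤ, ∀ l < k, ∑ i ∈ Finset.range k, (∑ j ∈ Finset.range k, x j * A j i) * W i l = x l * c :=
    fun x l hl => by
      simp only [Finset.sum_mul, mul_assoc]
      rw [Finset.sum_comm, Finset.sum_congr rfl fun j hj => by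
        rw [← Finset.mul_sum, h j (Finset.mem_range.1 hj) l hl]]
      simp only [mul_ite, mul_zero, Finset.sum_ite_eq', Finset.mem_range, hl, if_true]
  intro l hl
  refine mul_right_cancel₀ hc ?_
  rw [← key x l hl, ← key y l hl]
  exact Finset.sum_congr rfl fun i hi => by rw [hx i (Finset.mem_range.1 hi)]

/-- the constituents of a summand `A` of `3 ψ + 2 η + ζ` -/
theorem split [Fintype K] {ψ ζ η A C : K → ℂ} (hψ : IsIrrCharacter K ψ) (hζ : IsIrrCharacter K ζ)
    (hη : IsGeneralizedCharacter K η) (hA : IsCharacter K A) (hC : IsCharacter K C)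
    (h : A + C = (3 : ℂ) • ψ + (2 : ℂ) • η + ζ) (h2 : classInner η η = 2) (h0 : classInner η ψ = 0) {r s w e : ℕ}
    (hr : ψ 1 = r) (hs : η 1 = s) (hw : ζ 1 = w) (he : A 1 = e) (h3 : ¬ r ∣ e) (h4 : e < w) (h5 : 2 * e < s) :
    ∃ χ : IrrCharacter K, classInner η χ ≠ 0 ∧ ∃ i j a b : ℕ, i ≤ 3 ∧ j ≤ 2 ∧ (χ : K → ℂ) 1 = a ∧ a ∣ Nat.card K ∧
      b ∣ Nat.card K ∧ a + b = s ∧ i * r + j * a = e := by
  classical
  have := finite_irr (G := K)
  have := Fintype.ofFinite (IrrCharacter K)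
  obtain ⟨m, hm⟩ := exists_nat_comb hA
  have hm' : ∀ φ : IrrCharacter K, classInner A φ = m φ := fun φ => by rw [hm, classInner_sum_nsmul_irr]
  have hle : ∀ (φ : IrrCharacter K) (c : ℤ), 3 * classInner ψ φ + 2 * classInner η φ + classInner ζ φ = c →
      (m φ : ℤ) ≤ c := fun φ c hc => by
    obtain ⟨n, hn⟩ := classInner_isNat hC (isIrr_isCharacter φ.2)
    have h6 := congrArg (classInner · (φ : K → ℂ)) h
    simp only [classInner_add_left, classInner_smul_left, hm', hn, hc] at h6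
    have h7 : (m φ : ℤ) + n = c := by exact_mod_cast h6
    omega
  have hdeg : ∀ (φ : IrrCharacter K) (a : ℕ), (φ : K → ℂ) 1 = a → e < a → m φ = 0 := fun φ a ha hlt => by
    by_contra h6
    exact absurd (deg_le hA φ.2 ha he (by rw [hm']; exact_mod_cast h6)) (not_le.2 hlt)
  have hdvd : ∀ (φ : K → ℂ) (a : ℕ), IsIrrCharacter K φ → φ 1 = a → a ∣ Nat.card K := fun φ a hφ ha => by
    have h6 := H669.Basic.charDegree_dvd_card hφ
    rwa [charDegree, ha, Complex.natCast_re, Nat.floor_natCast] at h6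
  have hsum : ∀ s : Finset (IrrCharacter K), (∀ φ ∉ s, m φ = 0) → (e : ℂ) = ∑ φ ∈ s, m φ * (φ : K → ℂ) 1 := fun s hs => by
    rw [← he, hm, Finset.sum_apply, Finset.sum_subset (Finset.subset_univ s) fun φ _ hφ => by
      rw [hs φ hφ, Nat.cast_zero, zero_mul]]
    exact Finset.sum_congr rfl fun φ _ => by rw [Pi.smul_apply, nsmul_eq_mul]
  obtain ⟨χ, h6, h7⟩ : ∃ χ : IrrCharacter K, χ ≠ ⟨ψ, hψ⟩ ∧ m χ ≠ 0 := by
    by_contra h6
    push Not at h6
    have h7 := hsum {⟨ψ, hψ⟩} fun φ hφ => h6 φ fun e => hφ (Finset.mem_singleton.2 e)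
    rw [Finset.sum_singleton, Subtype.coe_mk, hr] at h7
    exact h3 (Dvd.intro_left _ (by exact_mod_cast h7.symm))
  obtain ⟨a, -, ha⟩ := isIrr_apply_one χ.2
  have hae : a ≤ e := not_lt.1 fun h8 => h7 (hdeg χ a ha h8)
  have hψχ : classInner ψ χ = 0 := classInner_irr_ne hψ χ.2 fun e => h6 (Subtype.ext e.symm)
  have hζ' : ∀ φ : IrrCharacter K, m φ ≠ 0 → classInner ζ φ = 0 := fun φ hφ => classInner_irr_ne hζ φ.2 fun e =>
    hφ (hdeg φ w (e ▸ hw) h4)
  obtain ⟨c, hc⟩ := gen_inner hη (gen_of_irr χ.2)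
  have h8 := hle χ (2 * c) (by rw [hψχ, hζ' χ h7, hc]; push_cast; ring)
  have hc' : classInner (χ : K → ℂ) η = c := by rw [← classInner_conj_symm, hc, map_intCast]
  have h9 : ∀ t : ℤ, classInner (η - (t : ℂ) • (χ : K → ℂ)) (η - (t : ℂ) • (χ : K → ℂ)) = ((2 - 2 * t * c + t * t : ℤ) : ℂ) :=
    fun t => by
      simp only [classInner_sub_left, classInner_sub_right, classInner_smul_left, classInner_smul_right, h2, hc, hc',
        classInner_irr_self χ.2, map_intCast]
      push_cast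
      ring
  have h10 := classInner_self_re_nonneg (η - (c : ℂ) • (χ : K → ℂ))
  rw [h9, Complex.intCast_re, Int.cast_nonneg_iff] at h10
  obtain rfl : c = 1 := by
    have h11 : 1 ≤ c := by omega
    nlinarith
  have h11 := h9 1
  rw [Int.cast_one, one_smul] at h11
  have hb : (η - (χ : K → ℂ)) 1 = (s - a : ℕ) := by rw [Pi.sub_apply, hs, ha, Nat.cast_sub (by omega)]
  have hχ' := irr_of_norm1 (gen_sub hη (gen_of_irr χ.2)) (h11.trans (by norm_num)) hb
  have h12 := hsum {⟨ψ, hψ⟩, χ} fun φ hφ => by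
    by_contra h12
    rw [Finset.mem_insert, Finset.mem_singleton, not_or] at hφ
    have h13 := classInner_irr_ne hχ' φ.2 fun e => h12 (hdeg φ _ (e ▸ hb) (by omega))
    rw [classInner_sub_left, classInner_irr_ne χ.2 φ.2 fun e => hφ.2 (Subtype.ext e.symm), sub_zero] at h13
    have h14 := hle φ 0 (by
      rw [classInner_irr_ne hψ φ.2 fun e => hφ.1 (Subtype.ext e.symm), h13, hζ' φ h12]
      norm_num)
    omega
  rw [Finset.sum_pair h6.symm, Subtype.coe_mk, hr, ha] at h12
  refine ⟨χ, by rw [hc]; norm_num, m ⟨ψ, hψ⟩, m χ, a, s - a, ?_, by omega, ha, hdvd _ _ χ.2 ha, hdvd _ _ hχ' hb,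
    by omega, by exact_mod_cast h12.symm⟩
  by_contra h13
  have h14 := hle ⟨ψ, hψ⟩ 3 (by
    rw [classInner_irr_self hψ, h0, hζ' _ (by omega)]
    norm_num)
  omega

end Cfsg.Agent.BZ.C6
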